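import Mathlib

/-! # Numbers of elements of each order in the alternating groups of degree at most six -/

namespace CfsgLib.OrderCounts

/-- The order of `g`, provided that it is at most five. -/
def smallOrder {G : Type*} [Monoid G] [DecidableEq G] (g : G) : ℕ :=
  if g = 1 then 1 else if g ^ 2 = 1 then 2 else if g ^ 3 = 1 then 3
  else if g ^ 4 = 1 then 4 else 5

lemma orderOf_eq_smallOrder {G : Type*} [Monoid G] [DecidableEq G] (g : G)
    (h : g ^ smallOrder g = 1) : orderOf g = smallOrder g := by
  unfold smallOrder at h ⊢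
  rw [orderOf_eq_iff (by split_ifs <;> norm_num)]
  refine ⟨h, fun m hm hm0 => ?_⟩
  split_ifs at hm <;> interval_cases m <;> simp_all

lemma counts_of_table {G : Type*} [Monoid G] [Fintype G] [DecidableEq G] (tab : List (ℕ × ℕ))
    (h1 : ∀ g : G, g ^ smallOrder g = 1 ∧ smallOrder g ∈ tab.map Prod.fst)
    (h2 : ∀ e ∈ tab, (Finset.univ.filter fun g : G => smallOrder g = e.1).card = e.2)
    (h3 : ∀ e ∈ tab, e.2 ≠ 0) :
    (fun m : ℕ => Nat.card {g : G // orderOf g = m}) '' Set.range (orderOf : G → ℕ) =
      {v | v ∈ tab.map Prod.snd} := by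
  have key : ∀ e ∈ tab, Nat.card {g : G // orderOf g = e.1} = e.2 := by
    intro e he
    rw [Nat.card_eq_fintype_card, Fintype.card_subtype, ← h2 e he]
    congr 1
    refine Finset.filter_congr fun g _ => ?_
    rw [orderOf_eq_smallOrder g (h1 g).1]
  ext v
  simp only [Set.mem_image, Set.mem_range, Set.mem_setOf_eq, List.mem_map]
  constructor
  · rintro ⟨m, ⟨g, rfl⟩, rfl⟩
    obtain ⟨e, he, hev⟩ := List.mem_map.1 (h1 g).2
    exact ⟨e, he, by rw [orderOf_eq_smallOrder g (h1 g).1, ← hev, key e he]⟩
  · rintro ⟨e, he, rfl⟩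
    refine ⟨e.1, ?_, key e he⟩
    by_contra hno
    have : IsEmpty {g : G // orderOf g = e.1} := ⟨fun g => hno ⟨g.1, g.2⟩⟩
    exact h3 e he (by rw [← key e he, Nat.card_of_isEmpty])

set_option maxRecDepth 100000

lemma altFour_counts :
    (fun m : ℕ => Nat.card {g : alternatingGroup (Fin 4) // orderOf g = m}) ''
      Set.range (orderOf : alternatingGroup (Fin 4) → ℕ) = {v | v ∈ [1, 3, 8]} :=
  counts_of_table [(1, 1), (2, 3), (3, 8)] (by decide +kernel) (by decide +kernel) (by decide)

lemma altFive_counts :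
    (fun m : ℕ => Nat.card {g : alternatingGroup (Fin 5) // orderOf g = m}) ''
      Set.range (orderOf : alternatingGroup (Fin 5) → ℕ) = {v | v ∈ [1, 15, 20, 24]} :=
  counts_of_table [(1, 1), (2, 15), (3, 20), (5, 24)] (by decide +kernel) (by decide +kernel)
    (by decide)

lemma altSix_counts :
    (fun m : ℕ => Nat.card {g : alternatingGroup (Fin 6) // orderOf g = m}) ''
      Set.range (orderOf : alternatingGroup (Fin 6) → ℕ) = {v | v ∈ [1, 45, 80, 90, 144]} :=
  counts_of_table [(1, 1), (2, 45), (3, 80), (4, 90), (5, 144)] (by decide +kernel)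
    (by decide +kernel) (by decide)

end CfsgLib.OrderCounts
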