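import Cfsg.Agent.OrderCounts.Sound
import Cfsg.Agent.FgsSix.Frobenius

/-! # The order counts of a finite group satisfy the hypotheses of the search -/

namespace CfsgLib.OrderCounts

variable {G : Type*} [Group G] [Finite G]

/-- The number of elements of order `m`. -/
noncomputable def count (G : Type*) [Group G] (m : ℕ) : ℕ := Nat.card {g : G // orderOf g = m}

lemma count_ne_zero {m : ℕ} : count G m ≠ 0 ↔ ∃ g : G, orderOf g = m := by
  rw [count, Nat.card_ne_zero]
  exact ⟨fun h => let ⟨g⟩ := h.1; ⟨g.1, g.2⟩, fun ⟨g, hg⟩ => ⟨⟨⟨g, hg⟩⟩, inferInstance⟩⟩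

lemma count_one : count G 1 = 1 := by
  rw [count, Nat.card_eq_one_iff_unique]
  exact ⟨⟨fun a b => Subtype.ext (by
    rw [orderOf_eq_one_iff.1 a.2, orderOf_eq_one_iff.1 b.2])⟩, ⟨⟨1, orderOf_one⟩⟩⟩

lemma card_pow_eq_one_eq_sum (d : ℕ) (hd : 0 < d) :
    Nat.card {g : G // g ^ d = 1} = ∑ c ∈ d.divisors, count G c := by
  classical
  cases nonempty_fintype G
  simp only [count, Nat.card_eq_fintype_card, Fintype.card_subtype]
  exact (sum_card_orderOf_eq_card_pow_eq_one hd.ne').symm

/-- The order counts of a group with the prescribed set of values form valid data. -/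
lemma valid_count (X : Data) (ht : X.tablesOK = true) (hnd : X.ms.Nodup)
    (h : (fun m : ℕ => Nat.card {g : G // orderOf g = m}) '' Set.range (orderOf : G → ℕ) =
      {v | v ∈ X.N}) : Valid X (count G) (Nat.card G) := by
  classical
  simp only [Data.tablesOK, Bool.and_eq_true] at ht
  obtain ⟨⟨⟨⟨⟨⟨⟨⟨⟨-, hent⟩, -⟩, hclosed⟩, hprimes⟩, -⟩, hodd⟩, hoddmem⟩, hoddodd⟩, hoddone⟩ := ht
  have hmem : ∀ d, count G d ≠ 0 → count G d ∈ X.N := by
    intro d hd
    obtain ⟨g, hg⟩ := count_ne_zero.1 hd
    have : count G d ∈ {v | v ∈ X.N} := h ▸ ⟨d, ⟨g, hg⟩, rfl⟩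
    exact this
  have hatt : ∀ v ∈ X.N, ∃ g : G, count G (orderOf g) = v := by
    intro v hv
    have : v ∈ {v | v ∈ X.N} := hv
    rw [← h] at this
    obtain ⟨m, ⟨g, rfl⟩, hgm⟩ := this
    exact ⟨g, hgm⟩
  have htot : ∀ d, Nat.totient d ∣ count G d := CfsgLib.FgsSix.totient_dvd_card_orderOf_eq
  have hdown : ∀ m d, count G m ≠ 0 → d ∣ m → count G d ≠ 0 := by
    intro m d hm hdm
    obtain ⟨g, hg⟩ := count_ne_zero.1 hm
    exact count_ne_zero.2 ⟨g ^ (m / d), by
      subst hg
      have hm0 : orderOf g ≠ 0 := (orderOf_pos g).ne'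
      rw [orderOf_pow_of_dvd ?_ (Nat.div_dvd_of_dvd hdm), Nat.div_div_self hdm hm0]
      exact (Nat.div_pos (Nat.le_of_dvd (Nat.pos_of_ne_zero hm0) hdm)
        (Nat.pos_of_dvd_of_pos hdm (Nat.pos_of_ne_zero hm0))).ne'⟩
  have hord : ∀ d, count G d ≠ 0 → d ∣ Nat.card G := fun d hd => by
    obtain ⟨g, hg⟩ := count_ne_zero.1 hd
    exact hg ▸ orderOf_dvd_natCard g
  have hfrob : ∀ d, d ∣ Nat.card G → d ∣ ∑ c ∈ d.divisors, count G c := fun d hd => by
    rw [← card_pow_eq_one_eq_sum d (Nat.pos_of_dvd_of_pos hd Nat.card_pos)]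
    exact CfsgLib.FgsSix.dvd_card_pow_eq_one d hd
  have hp : ∀ p, p.Prime → p ∣ Nat.card G → p ∈ X.P ∧ count G p ≠ 0 := by
    intro p hp hpn
    haveI := Fact.mk hp
    obtain ⟨g, hg⟩ := exists_prime_orderOf_dvd_card' p hpn
    have hne : count G p ≠ 0 := count_ne_zero.2 ⟨g, hg⟩
    refine ⟨?_, hne⟩
    have h1 := hfrob p hpn
    rw [hp.divisors, Finset.sum_insert (by simp [hp.ne_one.symm]), Finset.sum_singleton,
      count_one, Nat.add_comm] at h1
    have h2 : p - 1 ∣ count G p := Nat.totient_prime hp ▸ htot p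
    simp only [Data.primesOK, Bool.and_eq_true, List.all_eq_true, Nat.blt_eq, List.mem_range,
      Bool.or_eq_true, List.contains_iff_mem, List.any_eq_true, Nat.ble_eq, dv_iff,
      Bool.not_eq_true', List.any_eq_false, not_and] at hprimes
    have hlt := hprimes.1 _ (hmem p hne)
    have hple := Nat.le_of_dvd (Nat.succ_pos _) h1
    rcases hprimes.2 p (by omega) with ((h' | h') | ⟨d, hd, h2d, hdp⟩) | h'
    · exact h'
    · have := hp.two_le
      omega
    · rcases (Nat.dvd_prime hp).1 hdp with rfl | rfl <;> omega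
    · exact absurd h1 (h' _ (hmem p hne) h2)
  have hone : count G 1 = 1 := count_one
  have hsupp : ∀ d, count G d ≠ 0 → d ∈ X.ms := by
    intro d
    induction d using Nat.strong_induction_on with
    | _ d ih =>
      intro hd
      obtain ⟨g, hg⟩ := count_ne_zero.1 hd
      rcases eq_or_ne d 1 with rfl | hd1
      · exact List.mem_cons_self ..
      have hd0 : 0 < d := hg ▸ orderOf_pos g
      obtain ⟨p, hpp, k, rfl⟩ := Nat.exists_prime_and_dvd hd1
      obtain ⟨hpP, -⟩ := hp p hpp ((dvd_mul_right p k).trans (hord _ hd))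
      have hk0 : 0 < k := Nat.pos_of_mul_pos_left hd0
      have hklt : k < p * k := lt_mul_of_one_lt_left hk0 hpp.one_lt
      have hk := ih k hklt (hdown _ k hd (dvd_mul_left k p))
      have htk : ∃ t ∈ ((1, 1) :: (X.pps ++ X.comp).map fun e => (e.m, e.phi)),
          t.1 = k ∧ t.2 = Nat.totient k := by
        rw [Data.ms, List.mem_cons, ← List.map_append, List.mem_map] at hk
        rcases hk with rfl | ⟨e, he, rfl⟩
        · exact ⟨(1, 1), List.mem_cons_self .., rfl, Nat.totient_one.symm⟩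
        · refine ⟨(e.m, e.phi), List.mem_cons_of_mem _ (List.mem_map_of_mem he), rfl, ?_⟩
          exact ((entOK_iff (List.all_eq_true.1 hent e he)).1).symm
      obtain ⟨t, htmem, ht1, ht2⟩ := htk
      have := List.all_eq_true.1 (List.all_eq_true.1 hclosed t htmem) p hpP
      simp only [Bool.or_eq_true, List.contains_iff_mem, List.all_eq_true, Bool.not_eq_true',
        ← Bool.not_eq_true, dv_iff, ht1, ht2, mul_comm k p] at this
      refine this.resolve_right fun hbad => hbad _ (hmem _ hd) ?_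
      split_ifs with hpk
      · exact Nat.totient_mul_of_prime_of_dvd hpp hpk ▸ htot _
      · exact Nat.totient_mul_of_prime_of_not_dvd hpp hpk ▸ htot _
  have hfilter : ∀ d, 0 < d →
      ∑ c ∈ d.divisors, count G c = ((X.ms.filter fun c => dv c d).map (count G)).sum := by
    intro d hd
    rw [← List.sum_toFinset _ (hnd.filter _)]
    refine (Finset.sum_subset ?_ ?_).symm
    · intro c hc
      simp only [List.mem_toFinset, List.mem_filter, dv_iff] at hc
      exact Nat.mem_divisors.2 ⟨hc.2, hd.ne'⟩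
    · intro c hc hc'
      by_contra h0
      simp only [List.mem_toFinset, List.mem_filter, dv_iff, not_and] at hc'
      exact hc' (hsupp c h0) (Nat.dvd_of_mem_divisors hc)
  refine
    { mem := hmem
      totient := htot
      down := hdown
      order := hord
      one := hone
      two := ?_
      cong := fun d hd => hfilter d (Nat.pos_of_dvd_of_pos hd Nat.card_pos) ▸ hfrob d hd
      total := ?_
      attained := ?_
      support := hsupp
      pos := Nat.card_pos
      cauchy := hp }
  · intro _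
    rw [List.contains_iff_mem] at hoddmem
    rw [Bool.not_eq_true', beq_eq_false_iff_ne] at hoddone
    rw [beq_iff_eq] at hoddodd
    obtain ⟨g, hg⟩ := hatt _ hoddmem
    have h3 : ¬ 2 < orderOf g := fun h2 => by
      obtain ⟨c, hc⟩ := (Nat.totient_even h2).two_dvd.trans (hg ▸ htot (orderOf g))
      omega
    have h4 : orderOf g ≠ 1 := fun h1 => by rw [h1, hone] at hg; omega
    have h5 := orderOf_pos g
    rw [show orderOf g = 2 by omega] at hg
    exact hg
  · have h2 := hfilter (Nat.card G) Nat.card_pos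
    rw [← card_pow_eq_one_eq_sum _ Nat.card_pos,
      Nat.card_congr (Equiv.subtypeUnivEquiv (fun g : G => pow_card_eq_one')),
      sum_filter_congr X.ms (fun c => dv c (Nat.card G)) (fun _ => true)
        (fun c _ hc => dv_iff.2 (hord c hc)), List.filter_true] at h2
    exact h2.symm
  · intro v hv
    obtain ⟨g, hg⟩ := hatt v hv
    exact ⟨orderOf g, hsupp _ (count_ne_zero.2 ⟨g, rfl⟩), hg, count_ne_zero.2 ⟨g, rfl⟩⟩

end CfsgLib.OrderCounts
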