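import Cfsg.Agent.OrderCounts.Group
import Cfsg.Agent.Spectrum.IndependentPrimes
import Cfsg.Agent.DicksonPSL2.Recognition
import Cfsg.Agent.S0497

/-! # Groups with the order counts of small alternating groups -/

namespace CfsgLib.OrderCounts

open CfsgLib.Spectrum

variable {G : Type*} [Group G] [Finite G]

lemma sum_divisors_eq_card : ∑ c ∈ (Nat.card G).divisors, count G c = Nat.card G := by
  rw [← card_pow_eq_one_eq_sum _ Nat.card_pos]
  exact Nat.card_congr (Equiv.subtypeUnivEquiv fun g : G => pow_card_eq_one')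

/-- A group with the order counts of `A₄` is `A₄`. -/
theorem equiv_altFour (hn : Nat.card G = 12) (h2 : count G 2 = 3) (h3 : count G 3 = 8) :
    Nonempty (G ≃* alternatingGroup (Fin 4)) := by
  have htot := sum_divisors_eq_card (G := G)
  have hle := Finset.sum_le_sum_of_subset (f := count G) (s := {1, 2, 3, 6})
    (t := Nat.divisors (Nat.card G)) (fun c hc => Nat.mem_divisors.2
      ⟨by rw [hn]; simp only [Finset.mem_insert, Finset.mem_singleton] at hc
          rcases hc with rfl | rfl | rfl | rfl <;> norm_num, by omega⟩)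
  rw [htot, hn] at hle
  simp [count_one, h2, h3] at hle
  obtain ⟨g, hg⟩ := count_ne_zero.1 (h3.trans_ne (by norm_num))
  refine Cfsg.Agent.S0228.result hn fun z hz hzc => ?_
  have h6 : orderOf (z * g) = 6 := by
    rw [(Commute.orderOf_mul_eq_mul_orderOf_of_coprime
      (Subgroup.mem_center_iff.1 hzc g).symm (by rw [hz, hg]; decide)), hz, hg]
  exact count_ne_zero.2 ⟨_, h6⟩ (by omega)

/-- A group with the order counts of `A₅` is `A₅`. -/
theorem equiv_altFive (hn : Nat.card G = 60) (h5 : count G 5 = 24) :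
    Nonempty (G ≃* alternatingGroup (Fin 5)) := by
  obtain ⟨g, hg⟩ := count_ne_zero.1 (h5.trans_ne (by norm_num))
  set C := Subgroup.zpowers g with hC
  have hCc : Nat.card C = 5 := by rw [hC, Nat.card_zpowers, hg]
  refine CfsgLib.DicksonPSL2.nonempty_equiv_alt_five hn C hCc fun hN => ?_
  haveI : C.Normal :=
    Subgroup.normalizer_eq_top_iff.1 (Subgroup.eq_top_of_card_eq _ (hN.trans hn.symm))
  have hall : ∀ x : G, orderOf x = 5 → x ∈ C := by
    intro x hx
    rw [← QuotientGroup.eq_one_iff, ← orderOf_eq_one_iff]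
    have h1 : orderOf (x : G ⧸ C) ∣ 5 := hx ▸ orderOf_map_dvd (QuotientGroup.mk' C) x
    have h2 : orderOf (x : G ⧸ C) ∣ 12 := by
      refine (orderOf_dvd_natCard _).trans (dvd_of_eq ?_)
      have := Subgroup.card_eq_card_quotient_mul_card_subgroup C
      rw [hn, hCc] at this
      omega
    exact Nat.dvd_one.1 ((Nat.dvd_gcd h1 h2).trans (by decide))
  have : count G 5 ≤ Nat.card C :=
    Nat.card_le_card_of_injective (fun x : {g : G // orderOf g = 5} => (⟨x.1, hall x.1 x.2⟩ : C))
      fun a b h => Subtype.ext (congrArg (Subtype.val (p := fun g => g ∈ C)) h)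
  omega

/-- A group with the order counts of `A₆` is `A₆`. -/
theorem equiv_altSix (hn : Nat.card G = 360) (h2 : count G 2 = 45) (h3 : count G 3 = 80)
    (h4 : count G 4 = 90) (h5 : count G 5 = 144) :
    Nonempty (G ≃* alternatingGroup (Fin 6)) := by
  have htot := sum_divisors_eq_card (G := G)
  have hle := Finset.sum_le_sum_of_subset (f := count G) (s := {1, 2, 3, 4, 5, 10, 15})
    (t := Nat.divisors (Nat.card G)) (fun c hc => Nat.mem_divisors.2
      ⟨by rw [hn]; simp only [Finset.mem_insert, Finset.mem_singleton] at hc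
          rcases hc with rfl | rfl | rfl | rfl | rfl | rfl | rfl <;> norm_num, by omega⟩)
  rw [htot, hn] at hle
  simp [count_one, h2, h3, h4, h5] at hle
  have hno : ∀ m : ℕ, count G m = 0 → ∀ g : G, orderOf g ≠ m :=
    fun m hm g hg => count_ne_zero.2 ⟨g, hg⟩ hm
  have hn2 : NoCommute G 2 5 :=
    noCommute_of_no_order Nat.prime_two Nat.prime_five (by norm_num) (hno 10 (by omega))
  have hn3 : NoCommute G 3 5 :=
    noCommute_of_no_order Nat.prime_three Nat.prime_five (by norm_num) (hno 15 (by omega))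
  have ha2 : NoActing G 2 5 := by
    intro k hk hd
    rw [hn] at hd
    have : k ≤ 3 := by
      by_contra hk'
      exact absurd ((pow_dvd_pow 2 (show 4 ≤ k by omega)).trans hd) (by norm_num)
    interval_cases k <;> norm_num
  have ha3 : NoActing G 3 5 := by
    intro k hk hd
    rw [hn] at hd
    have : k ≤ 2 := by
      by_contra hk'
      exact absurd ((pow_dvd_pow 3 (show 3 ≤ k by omega)).trans hd) (by norm_num)
    interval_cases k <;> norm_num
  haveI : Nontrivial G := Finite.one_lt_card_iff_nontrivial.1 (by omega)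
  haveI : IsSimpleGroup G := by
    refine ⟨fun K hK => or_iff_not_imp_left.2 fun hne => ?_⟩
    haveI := hK
    have h5G : 5 ∣ Nat.card G := by rw [hn]; norm_num
    have h5K : 5 ∣ Nat.card K := by
      have hK1 : Nat.card K ≠ 1 := fun h => hne (Subgroup.eq_bot_of_card_eq K h)
      obtain ⟨p, hp, hpK⟩ := Nat.exists_prime_and_dvd hK1
      have hp360 : p ∣ 2 ^ 3 * 3 ^ 2 * 5 :=
        (hpK.trans (Subgroup.card_subgroup_dvd_card K)).trans (by rw [hn]; norm_num)
      rcases hp.dvd_mul.1 hp360 with h | h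
      · rcases hp.dvd_mul.1 h with h | h
        · rw [(Nat.prime_dvd_prime_iff_eq hp Nat.prime_two).1 (hp.dvd_of_dvd_pow h)] at hpK
          exact dvd_card_normal Nat.prime_two Nat.prime_five (by norm_num) h5G hn2 ha2 K hpK
        · rw [(Nat.prime_dvd_prime_iff_eq hp Nat.prime_three).1 (hp.dvd_of_dvd_pow h)] at hpK
          exact dvd_card_normal Nat.prime_three Nat.prime_five (by norm_num) h5G hn3 ha3 K hpK
      · rwa [(Nat.prime_dvd_prime_iff_eq hp Nat.prime_five).1 h] at hpK
    have hidx : Nat.card (G ⧸ K) * Nat.card K = 360 :=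
      hn ▸ (Subgroup.card_eq_card_quotient_mul_card_subgroup K).symm
    have hmem : ∀ (p : ℕ), p.Prime → ¬ p ∣ Nat.card (G ⧸ K) → ∀ x : G, orderOf x = p → x ∈ K := by
      intro p hp hpQ x hx
      rw [← QuotientGroup.eq_one_iff, ← orderOf_eq_one_iff]
      rcases (Nat.dvd_prime hp).1 (hx ▸ orderOf_map_dvd (QuotientGroup.mk' K) x :
        orderOf (x : G ⧸ K) ∣ p) with h | h
      · exact h
      · exact absurd (h ▸ orderOf_dvd_natCard _) hpQ
    have h5Q : ¬ 5 ∣ Nat.card (G ⧸ K) := fun h => by
      have := hidx ▸ mul_dvd_mul h h5K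
      norm_num at this
    have hlow5 : 144 ≤ Nat.card K := h5 ▸ Nat.card_le_card_of_injective
      (fun x : {g : G // orderOf g = 5} => (⟨x.1, hmem 5 Nat.prime_five h5Q x.1 x.2⟩ : K))
      fun a b h => Subtype.ext (congrArg (Subtype.val (p := fun g => g ∈ K)) h)
    have hQ2 : Nat.card (G ⧸ K) ≤ 2 := by nlinarith
    have h3Q : ¬ 3 ∣ Nat.card (G ⧸ K) := fun h => by
      have := Nat.le_of_dvd Nat.card_pos h
      omega
    have hboth : count G 5 + count G 3 ≤ Nat.card K := by
      rw [count, count, ← Nat.card_sum]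
      refine Nat.card_le_card_of_injective (Sum.elim
        (fun x => (⟨x.1, hmem 5 Nat.prime_five h5Q x.1 x.2⟩ : K))
        (fun x => (⟨x.1, hmem 3 Nat.prime_three h3Q x.1 x.2⟩ : K))) ?_
      rintro (a | a) (b | b) h <;> simp only [Sum.elim_inl, Sum.elim_inr] at h <;>
        have h' : a.1 = b.1 := congrArg (Subtype.val (p := fun g => g ∈ K)) h
      · exact congrArg Sum.inl (Subtype.ext h')
      · exact absurd (a.2.symm.trans ((congrArg orderOf h').trans b.2)) (by norm_num)
      · exact absurd (a.2.symm.trans ((congrArg orderOf h').trans b.2)) (by norm_num)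
      · exact congrArg Sum.inr (Subtype.ext h')
    refine Subgroup.eq_top_of_card_eq K ?_
    have hQ1 : 0 < Nat.card (G ⧸ K) := Nat.card_pos
    rw [h5, h3] at hboth
    generalize Nat.card (G ⧸ K) = Q at hQ1 hQ2 hidx
    interval_cases Q <;> omega
  exact Cfsg.Agent.S0497.result hn

end CfsgLib.OrderCounts
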