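import Mathlib

/-!
# A verified search for groups with a prescribed set of numbers of elements of equal order

For a finite group `G` put `S m = #{g | orderOf g = m}`. The search runs through all functions
`S` with values in a given list `N`, satisfying the divisibility conditions of Frobenius, and
checks that each of them is the expected one.
-/

namespace CfsgLib.OrderCounts

/-- A candidate element order `m`, with its `totient`, the possible values of `S m`, the number
of proper divisors of `m` among the candidate orders and the largest possible value. -/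
structure Ent where
  m : ℕ
  phi : ℕ
  vals : List ℕ
  npr : ℕ
  mx : ℕ

/-- Boolean divisibility. -/
def dv (d n : ℕ) : Bool := n % d == 0

lemma dv_iff {d n : ℕ} : dv d n = true ↔ d ∣ n := by
  simp [dv, Nat.dvd_iff_mod_eq_zero]

/-- The sum of the recorded values at divisors of `n`. -/
def sumDiv (a : List (ℕ × ℕ)) (n : ℕ) : ℕ :=
  ((a.filter fun p => dv p.1 n).map Prod.snd).sum

/-- The branching step: each entry is either absent or gets one of its values. -/
def go (prune : List (ℕ × ℕ) → List Ent → Bool) (k : List (ℕ × ℕ) → Bool) :
    List Ent → List (ℕ × ℕ) → Bool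
  | [], a => k a
  | e :: R, a => prune a (e :: R) || (go prune k R a &&
      (!((a.filter fun p => dv p.1 e.m).length == e.npr) ||
        e.vals.all fun v => !(dv e.m (sumDiv a e.m + v)) || go prune k R ((e.m, v) :: a)))

/-- The data of a search. -/
structure Data where
  N : List ℕ
  odd : ℕ
  P : List ℕ
  pps : List Ent
  comp : List Ent
  order : ℕ
  target : List (ℕ × ℕ)

/-- The candidate element orders. -/
def Data.ms (X : Data) : List ℕ := 1 :: (X.pps.map Ent.m ++ X.comp.map Ent.m)

/-- All products of powers of the primes in the list allowed by `T`. -/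
def cands (T : ℕ → ℕ) : List ℕ → List ℕ
  | [] => [1]
  | p :: P => (cands T P).flatMap fun x =>
      ((List.range 20).filter fun i => dv (p ^ i) (T p)).map fun i => x * p ^ i

/-- Pruning by the group order. -/
def prune (n : ℕ) (a : List (ℕ × ℕ)) (R : List Ent) : Bool :=
  n.blt (a.map Prod.snd).sum || ((a.map Prod.snd).sum + (R.map Ent.mx).sum).blt n

/-- The check at a complete assignment. -/
def Data.leaf (X : Data) (n : ℕ) (ds : List ℕ) (a : List (ℕ × ℕ)) : Bool :=
  !((a.map Prod.snd).sum == n) || !(X.N.all fun v => (a.map Prod.snd).contains v) ||
    ds.any (fun d => dv d n && !(dv d (sumDiv a d))) ||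
    (n == X.order && X.target.all fun t => a.contains t)

/-- The composite orders that may still occur. -/
def Data.live (X : Data) (n : ℕ) (a : List (ℕ × ℕ)) : List Ent :=
  X.comp.filter fun e => dv e.m n &&
    X.pps.all fun q => !(dv q.m e.m) || (a.map Prod.fst).contains q.m

/-- The check at an assignment on all prime powers. -/
def Data.mid (X : Data) (a : List (ℕ × ℕ)) : Bool :=
  let T := fun p => sumDiv a (p ^ 20)
  let ds := cands T (X.P.filter fun p => (a.map Prod.fst).contains p)
  X.P.all (fun p => (T p).blt (2 ^ 20)) && ds.all fun n =>
    !(a.all fun t => dv t.1 n) || n.blt (a.map Prod.snd).sum ||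
      X.pps.any (fun q => dv q.m n && !(dv q.m (sumDiv a q.m))) ||
      go (prune n) (X.leaf n ds) (X.live n a) a

/-- The whole search. -/
def Data.run (X : Data) : Bool := go (fun _ _ => false) X.mid X.pps [(1, 1)]

/-- Correctness of one table entry. -/
def Data.entOK (X : Data) (e : Ent) : Bool :=
  Nat.totient e.m == e.phi && (X.ms.filter fun d => dv d e.m).length == e.npr + 1 &&
    e.vals.all (fun v => v.ble e.mx) &&
    X.N.all fun v => !(dv e.phi v) || e.vals.contains v || (e.m == 2 && !(v == X.odd))

/-- No candidate order is a divisor of an earlier one. -/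
def sortedOK : List ℕ → Bool
  | [] => true
  | m :: l => l.all (fun d => !(dv d m)) && sortedOK l

/-- The candidate orders are closed under the steps that can occur. -/
def Data.closedOK (X : Data) : Bool :=
  ((1, 1) :: (X.pps ++ X.comp).map fun e => (e.m, e.phi)).all fun t => X.P.all fun p =>
    X.ms.contains (t.1 * p) ||
      X.N.all fun v => !(dv (if dv p t.1 then p * t.2 else (p - 1) * t.2) v)

/-- The primes are exhausted. -/
def Data.primesOK (X : Data) : Bool :=
  X.N.all (fun v => v.blt 200) && (List.range 202).all fun p =>
    X.P.contains p || p.blt 2 || (List.range p).any (fun d => Nat.ble 2 d && dv d p) ||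
      !(X.N.any fun v => dv (p - 1) v && dv p (v + 1))

/-- Correctness of all the tables. -/
def Data.tablesOK (X : Data) : Bool :=
  (X.comp.all fun e => X.P.all fun p => !(dv e.m (p ^ 20))) &&
    (X.pps ++ X.comp).all X.entOK && sortedOK ((X.pps ++ X.comp).map Ent.m) &&
    X.closedOK && X.primesOK && X.P.all (fun p => Nat.ble 2 p) &&
    X.N.all (fun v => !(v % 2 == 1) || v == 1 || v == X.odd) && X.N.contains X.odd &&
    X.odd % 2 == 1 && !(X.odd == 1)

end CfsgLib.OrderCounts
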