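import Cfsg.Agent.OrderCounts.Search

/-! # Soundness of the search -/

namespace CfsgLib.OrderCounts

/-- The nonzero values of `S` on the list `D`. -/
def enc (S : ℕ → ℕ) (D : List ℕ) : List (ℕ × ℕ) :=
  (D.filter fun d => S d != 0).map fun d => (d, S d)

variable {S : ℕ → ℕ}

lemma sum_enc (D : List ℕ) : ((enc S D).map Prod.snd).sum = (D.map S).sum := by
  induction D with
  | nil => rfl
  | cons d D ih =>
    unfold enc at *
    by_cases h : S d = 0 <;> simp_all [List.map_map, Function.comp_def]

lemma filter_enc (D : List ℕ) (p : ℕ → Bool) :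
    (enc S D).filter (fun t => p t.1) = enc S (D.filter p) := by
  simp [enc, List.filter_map, List.filter_filter, Function.comp_def, Bool.and_comm]

lemma sumDiv_enc (D : List ℕ) (n : ℕ) :
    sumDiv (enc S D) n = ((D.filter fun d => dv d n).map S).sum := by
  rw [sumDiv, filter_enc D (fun d => dv d n), sum_enc]

lemma mem_enc {D : List ℕ} {t : ℕ × ℕ} :
    t ∈ enc S D ↔ t.1 ∈ D ∧ S t.1 ≠ 0 ∧ S t.1 = t.2 := by
  obtain ⟨d, v⟩ := t
  simp only [enc, List.mem_map, List.mem_filter, bne_iff_ne, Prod.mk.injEq]
  grind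

lemma mem_keys_enc {D : List ℕ} {d : ℕ} :
    d ∈ (enc S D).map Prod.fst ↔ d ∈ D ∧ S d ≠ 0 := by
  simp [enc, List.map_map, Function.comp_def]

lemma length_enc {D : List ℕ} (h : ∀ d ∈ D, S d ≠ 0) : (enc S D).length = D.length := by
  simpa [enc] using h

lemma sortedOK_iff {l : List ℕ} : sortedOK l = true ↔ l.Pairwise fun m d => ¬ d ∣ m := by
  induction l with
  | nil => simp [sortedOK]
  | cons m l ih =>
    simp only [sortedOK, Bool.and_eq_true, List.all_eq_true, List.pairwise_cons, ih,
      Bool.not_eq_true', ← Bool.not_eq_true, dv_iff]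

/-- The properties of the numbers of elements of each order of a group of order `n`. -/
structure Valid (X : Data) (S : ℕ → ℕ) (n : ℕ) : Prop where
  mem : ∀ d, S d ≠ 0 → S d ∈ X.N
  totient : ∀ d, Nat.totient d ∣ S d
  down : ∀ m d, S m ≠ 0 → d ∣ m → S d ≠ 0
  order : ∀ d, S d ≠ 0 → d ∣ n
  one : S 1 = 1
  two : S 2 ≠ 0 → S 2 = X.odd
  cong : ∀ d, d ∣ n → d ∣ ((X.ms.filter fun c => dv c d).map S).sum
  total : (X.ms.map S).sum = n
  attained : ∀ v ∈ X.N, ∃ m ∈ X.ms, S m = v ∧ S m ≠ 0
  support : ∀ d, S d ≠ 0 → d ∈ X.ms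
  pos : 0 < n
  cauchy : ∀ p, p.Prime → p ∣ n → p ∈ X.P ∧ S p ≠ 0

variable {X : Data} {n : ℕ}

lemma entOK_iff {e : Ent} (h : X.entOK e = true) :
    Nat.totient e.m = e.phi ∧ (X.ms.filter fun d => dv d e.m).length = e.npr + 1 ∧
      (∀ v ∈ e.vals, v ≤ e.mx) ∧
      ∀ v ∈ X.N, e.phi ∣ v → v ∈ e.vals ∨ (e.m = 2 ∧ v ≠ X.odd) := by
  simp only [Data.entOK, Bool.and_eq_true, beq_iff_eq, List.all_eq_true, Nat.ble_eq,
    Bool.or_eq_true, Bool.not_eq_true', List.contains_iff_mem, ← Bool.not_eq_true, dv_iff] at h
  refine ⟨h.1.1.1, h.1.1.2, h.1.2, fun v hv hd => ?_⟩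
  rcases h.2 v hv with (h' | h') | h'
  · exact absurd hd h'
  · exact Or.inl h'
  · exact Or.inr h'

lemma val_mem (V : Valid X S n) {e : Ent} (he : X.entOK e = true) (h0 : S e.m ≠ 0) :
    S e.m ∈ e.vals := by
  obtain ⟨h1, -, -, h4⟩ := entOK_iff he
  rcases h4 _ (V.mem _ h0) (h1 ▸ V.totient _) with h | ⟨h, h'⟩
  · exact h
  · rw [h] at h0 h'
    exact absurd (V.two h0) h'

lemma val_le (V : Valid X S n) {e : Ent} (he : X.entOK e = true) : S e.m ≤ e.mx := by
  by_cases h : S e.m = 0
  · omega
  · exact (entOK_iff he).2.2.1 _ (val_mem V he h)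

/-- If the search succeeds then every valid `S` reaches a successful leaf. -/
lemma go_sound (V : Valid X S n) (pr : List (ℕ × ℕ) → List Ent → Bool)
    (k : List (ℕ × ℕ) → Bool) (Goal : Prop) (rest : List ℕ)
    (hpr : ∀ D R, (D ++ R.map Ent.m ++ rest).Perm X.ms → (∀ e ∈ R, X.entOK e = true) →
      pr (enc S D) R = true → Goal)
    (hk : ∀ D, (D ++ rest).Perm X.ms → k (enc S D) = true → Goal)
    (R : List Ent) (D : List ℕ) (hperm : (D ++ R.map Ent.m ++ rest).Perm X.ms)
    (hok : ∀ e ∈ R, X.entOK e = true)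
    (hsort : (R.map Ent.m ++ rest).Pairwise fun m d => ¬ d ∣ m)
    (h : go pr k R (enc S D) = true) : Goal := by
  induction R generalizing D with
  | nil => exact hk D (by simpa using hperm) (by simpa [go] using h)
  | cons e R ih =>
    rw [go, Bool.or_eq_true] at h
    rcases h with h | h
    · exact hpr D _ hperm hok h
    rw [Bool.and_eq_true] at h
    have hperm' : ((e.m :: D) ++ R.map Ent.m ++ rest).Perm X.ms := by
      refine List.Perm.trans ?_ hperm
      simp only [List.map_cons, List.cons_append, List.append_assoc]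
      exact List.perm_middle.symm
    have hok' : ∀ e' ∈ R, X.entOK e' = true := fun e' he' => hok e' (List.mem_cons_of_mem _ he')
    rw [List.map_cons, List.cons_append, List.pairwise_cons] at hsort
    obtain ⟨hlater, hsort'⟩ := hsort
    by_cases h0 : S e.m = 0
    · refine ih (e.m :: D) hperm' hok' hsort' ?_
      have : enc S (e.m :: D) = enc S D := by simp [enc, h0]
      rw [this]
      exact h.1
    have hfilt : ((D.filter fun d => dv d e.m) ++ [e.m]).Perm
        (X.ms.filter fun d => dv d e.m) := by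
      refine List.Perm.trans ?_ (hperm.filter _)
      have h1 : (R.map Ent.m ++ rest).filter (fun d => dv d e.m) = [] := by
        refine List.filter_eq_nil_iff.2 fun d hd => ?_
        rw [dv_iff]
        exact hlater d hd
      have h2 : dv e.m e.m = true := dv_iff.2 dvd_rfl
      simp only [List.map_cons, List.append_assoc, List.cons_append, List.filter_append,
        List.filter_cons, h2, if_true] at h1 ⊢
      rw [h1]
    obtain ⟨-, hnpr, -, -⟩ := entOK_iff (hok e (List.mem_cons_self ..))
    have hdiv : ∀ d ∈ D.filter (fun d => dv d e.m), S d ≠ 0 := fun d hd =>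
      V.down e.m d h0 (dv_iff.1 (List.mem_filter.1 hd).2)
    have hcount : ((enc S D).filter fun t => dv t.1 e.m).length = e.npr := by
      rw [filter_enc D (fun d => dv d e.m), length_enc hdiv]
      have := hfilt.length_eq
      simp only [List.length_append, List.length_singleton] at this
      omega
    have hsum : sumDiv (enc S D) e.m + S e.m = ((X.ms.filter fun d => dv d e.m).map S).sum := by
      rw [sumDiv_enc, ← (hfilt.map S).sum_eq]
      simp
    have hv := h.2
    simp only [hcount, beq_self_eq_true, Bool.not_true, Bool.false_or, List.all_eq_true,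
      Bool.or_eq_true] at hv
    rcases hv _ (val_mem V (hok e (List.mem_cons_self ..)) h0) with h' | h'
    · rw [Bool.not_eq_true', ← Bool.not_eq_true, dv_iff, hsum] at h'
      exact absurd (V.cong e.m (V.order _ h0)) h'
    · refine ih (e.m :: D) hperm' hok' hsort' ?_
      have : enc S (e.m :: D) = (e.m, S e.m) :: enc S D := by simp [enc, h0]
      rw [this]
      exact h'

lemma mem_cands {T : ℕ → ℕ} (P : List ℕ) (hP : ∀ p ∈ P, 2 ≤ p) (m : ℕ) (hm : m ≠ 0)
    (h : ∀ p k : ℕ, p.Prime → 0 < k → p ^ k ∣ m → p ∈ P ∧ p ^ k ∣ T p ∧ k < 20) :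
    m ∈ cands T P := by
  induction P generalizing m with
  | nil =>
    by_contra hne
    simp only [cands, List.mem_singleton] at hne
    obtain ⟨p, hp, hpm⟩ := Nat.exists_prime_and_dvd hne
    simpa using (h p 1 hp one_pos (by simpa using hpm)).1
  | cons q P ih =>
    simp only [cands, List.mem_flatMap, List.mem_map, List.mem_filter, List.mem_range]
    by_cases hq : q.Prime
    · refine ⟨m / q ^ m.factorization q, ih (fun p hp => hP p (List.mem_cons_of_mem _ hp)) _
        (Nat.ordCompl_pos q hm).ne' ?_, m.factorization q, ⟨?_, ?_⟩, ?_⟩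
      · intro p k hp hk hd
        have hpm := h p k hp hk (hd.trans (Nat.ordCompl_dvd m q))
        refine ⟨(List.mem_cons.1 hpm.1).resolve_left ?_, hpm.2⟩
        rintro rfl
        exact Nat.not_dvd_ordCompl hp hm ((dvd_pow_self p hk.ne').trans hd)
      · rcases Nat.eq_zero_or_pos (m.factorization q) with h0 | h0
        · omega
        · exact (h q _ hq h0 (Nat.ordProj_dvd m q)).2.2
      · rw [dv_iff]
        rcases Nat.eq_zero_or_pos (m.factorization q) with h0 | h0
        · simp [h0]
        · exact (h q _ hq h0 (Nat.ordProj_dvd m q)).2.1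
      · rw [mul_comm]
        exact Nat.ordProj_mul_ordCompl_eq_self m q
    · refine ⟨m, ih (fun p hp => hP p (List.mem_cons_of_mem _ hp)) m hm ?_, 0, ⟨by norm_num,
        by simp [dv_iff]⟩, by simp⟩
      intro p k hp hk hd
      have hpm := h p k hp hk hd
      exact ⟨(List.mem_cons.1 hpm.1).resolve_left (fun e => hq (e ▸ hp)), hpm.2⟩

lemma sum_filter_congr (l : List ℕ) (p q : ℕ → Bool) (h : ∀ x ∈ l, S x ≠ 0 → p x = q x) :
    ((l.filter p).map S).sum = ((l.filter q).map S).sum := by
  induction l with
  | nil => rfl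
  | cons x l ih =>
    have ih' := ih fun y hy => h y (List.mem_cons_of_mem _ hy)
    by_cases h0 : S x = 0
    · simp only [List.filter_cons]
      split_ifs <;> simp [h0, ih']
    · simp only [List.filter_cons, h x (List.mem_cons_self ..) h0]
      split_ifs <;> simp [ih']

/-- The main soundness statement. -/
theorem run_sound (V : Valid X S n) (ht : X.tablesOK = true) (hr : X.run = true) :
    n = X.order ∧ ∀ t ∈ X.target, S t.1 = t.2 := by
  simp only [Data.tablesOK, Bool.and_eq_true] at ht
  obtain ⟨⟨⟨⟨⟨⟨⟨⟨⟨hcp, hent⟩, hsort⟩, -⟩, -⟩, hP⟩, -⟩, -⟩, -⟩, -⟩ := ht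
  rw [List.all_eq_true] at hent
  rw [sortedOK_iff, List.map_append] at hsort
  have hP' : ∀ p ∈ X.P, 2 ≤ p := fun p hp => by simpa using List.all_eq_true.1 hP p hp
  set comp := X.comp.map Ent.m with hcomp
  have hcp' : ∀ d ∈ comp, ∀ p ∈ X.P, ¬ d ∣ p ^ 20 := by
    simp only [List.all_eq_true, Bool.not_eq_true', ← Bool.not_eq_true, dv_iff] at hcp
    intro d hd p hp
    obtain ⟨e, he, rfl⟩ := List.mem_map.1 hd
    exact hcp e he p hp
  have h11 : enc S [1] = [(1, 1)] := by simp [enc, V.one]
  refine go_sound V _ _ _ comp (fun D R _ _ h => absurd h Bool.false_ne_true) ?_ X.pps [1]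
    (by simp [Data.ms, hcomp]) (fun e he => hent e (List.mem_append_left _ he)) hsort
    (by rw [h11]; exact hr)
  intro D hD h
  rw [Data.mid, Bool.and_eq_true] at h
  obtain ⟨hT, hds⟩ := h
  -- sums over the divisors of a prime power only see the prime power part of the table
  have hlow : ∀ m : ℕ, (∀ c ∈ comp, ¬ c ∣ m) →
      sumDiv (enc S D) m = ((X.ms.filter fun c => dv c m).map S).sum := by
    intro m hm
    rw [sumDiv_enc, ← ((hD.filter _).map S).sum_eq, List.filter_append]
    have : comp.filter (fun c => dv c m) = [] :=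
      List.filter_eq_nil_iff.2 fun c hc => by rw [dv_iff]; exact hm c hc
    rw [this, List.append_nil]
  have hgcd : ∀ p ∈ X.P, n.gcd (p ^ 20) ∣ sumDiv (enc S D) (p ^ 20) := by
    intro p hp
    rw [hlow _ (fun c hc => hcp' c hc p hp), sum_filter_congr X.ms (fun c => dv c (p ^ 20))
      (fun c => dv c (n.gcd (p ^ 20))) ?_]
    · exact V.cong _ (Nat.gcd_dvd_left _ _)
    · intro c _ hc
      rw [Bool.eq_iff_iff, dv_iff, dv_iff, Nat.dvd_gcd_iff]
      simp [V.order c hc]
  have hsmall : ∀ p ∈ X.P, sumDiv (enc S D) (p ^ 20) < 2 ^ 20 := fun p hp => by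
    simpa using List.all_eq_true.1 hT p hp
  have hmemD : ∀ c ∈ X.ms, c ∉ comp → c ∈ D := fun c hc hnc =>
    (List.mem_append.1 (hD.mem_iff.2 hc)).resolve_right hnc
  have hPD : ∀ p k : ℕ, p.Prime → 0 < k → p ^ k ∣ n →
      p ∈ (X.P.filter fun p => ((enc S D).map Prod.fst).contains p) ∧
        p ^ k ∣ sumDiv (enc S D) (p ^ 20) ∧ k < 20 := by
    intro p k hp hk hd
    obtain ⟨hpP, hSp⟩ := V.cauchy p hp ((dvd_pow_self p hk.ne').trans hd)
    have hk20 : k < 20 := by
      by_contra hk'
      have h20 : p ^ 20 ∣ sumDiv (enc S D) (p ^ 20) :=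
        (Nat.dvd_gcd ((pow_dvd_pow p (by omega)).trans hd) dvd_rfl).trans (hgcd p hpP)
      have hpos : 0 < sumDiv (enc S D) (p ^ 20) := by
        rw [hlow _ (fun c hc => hcp' c hc p hpP), Data.ms, List.filter_cons,
          if_pos (dv_iff.2 (one_dvd _)), List.map_cons, List.sum_cons, V.one]
        omega
      have := Nat.le_of_dvd hpos h20
      have h2 : 2 ^ 20 ≤ p ^ 20 := Nat.pow_le_pow_left hp.two_le 20
      have := hsmall p hpP
      omega
    refine ⟨?_, (Nat.dvd_gcd hd (pow_dvd_pow p hk20.le)).trans (hgcd p hpP), hk20⟩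
    rw [List.mem_filter, List.contains_iff_mem, mem_keys_enc]
    exact ⟨hpP, hmemD p (V.support p hSp) fun hc => hcp' p hc p hpP (dvd_pow_self p (by norm_num)),
      hSp⟩
  have hn : n ∈ cands (fun p => sumDiv (enc S D) (p ^ 20))
      (X.P.filter fun p => ((enc S D).map Prod.fst).contains p) :=
    mem_cands _ (fun p hp => hP' p (List.mem_of_mem_filter hp)) n V.pos.ne' hPD
  have hn' := List.all_eq_true.1 hds n hn
  have hle : ((enc S D).map Prod.snd).sum ≤ n := by
    rw [sum_enc, ← V.total, ← (hD.map S).sum_eq, List.map_append, List.sum_append]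
    omega
  have hkeys : (enc S D).all (fun t => dv t.1 n) = true := by
    rw [List.all_eq_true]
    intro t ht
    exact dv_iff.2 (V.order _ (mem_enc.1 ht).2.1)
  have hppsD : ∀ q ∈ X.pps, ∀ c ∈ comp, ¬ c ∣ q.m := fun q hq c hc =>
    (List.pairwise_append.1 hsort).2.2 q.m (List.mem_map_of_mem hq) c hc
  have hppcong : X.pps.any
      (fun q => dv q.m n && !(dv q.m (sumDiv (enc S D) q.m))) = false := by
    rw [List.any_eq_false]
    intro q hq
    simp only [Bool.and_eq_true, dv_iff, Bool.not_eq_true', ← Bool.not_eq_true, not_and,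
      not_not]
    intro hqn
    rw [hlow _ (hppsD q hq)]
    exact V.cong _ hqn
  have hblt : n.blt ((enc S D).map Prod.snd).sum = false := by
    rw [← Bool.not_eq_true]
    simp only [Nat.blt_eq]
    omega
  simp only [hkeys, hblt, hppcong, Bool.not_true, Bool.false_or] at hn'
  -- the composite orders that are skipped do not occur
  set good := fun e : Ent => dv e.m n &&
    X.pps.all fun q => !(dv q.m e.m) || ((enc S D).map Prod.fst).contains q.m with hgood
  set skipped := (X.comp.filter fun e => !(good e)).map Ent.m with hskip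
  have hzero : ∀ c ∈ skipped, S c = 0 := by
    intro c hc
    obtain ⟨e, he, rfl⟩ := List.mem_map.1 hc
    rw [List.mem_filter, Bool.not_eq_true'] at he
    by_contra h0
    have : good e = true := by
      simp only [hgood, Bool.and_eq_true, dv_iff, List.all_eq_true, Bool.or_eq_true,
        Bool.not_eq_true', List.contains_iff_mem, mem_keys_enc]
      refine ⟨V.order _ h0, fun q hq => ?_⟩
      by_cases hd : dv q.m e.m = true
      · right
        have hS : S q.m ≠ 0 := V.down e.m q.m h0 (dv_iff.1 hd)
        exact ⟨hmemD q.m (V.support _ hS) fun hc => hppsD q hq q.m hc dvd_rfl, hS⟩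
      · left
        simpa using hd
    rw [he.2] at this
    exact Bool.false_ne_true this
  have henc : enc S (D ++ skipped) = enc S D := by
    have : skipped.filter (fun d => S d != 0) = [] :=
      List.filter_eq_nil_iff.2 fun c hc => by simp [hzero c hc]
    simp [enc, List.filter_append, this]
  have hperm2 : ((D ++ skipped) ++ (X.comp.filter good).map Ent.m ++ []).Perm X.ms := by
    refine List.Perm.trans ?_ hD
    rw [List.append_nil, List.append_assoc]
    refine List.Perm.append_left D ?_
    rw [hskip, hcomp, ← List.map_append]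
    exact (List.perm_append_comm.trans (List.filter_append_perm good X.comp)).map _
  refine go_sound V _ _ _ [] ?_ ?_ (X.comp.filter good) (D ++ skipped) hperm2
    (fun e he => hent e (List.mem_append_right _ (List.mem_of_mem_filter he))) ?_
    (by rw [henc]; exact hn')
  · intro D' R hp hR hpr
    exfalso
    simp only [prune, Bool.or_eq_true, Nat.blt_eq, sum_enc] at hpr
    have htot := (hp.map S).sum_eq
    rw [V.total] at htot
    simp only [List.append_nil, List.map_append, List.sum_append, List.map_map] at htot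
    have : (R.map (S ∘ Ent.m)).sum ≤ (R.map Ent.mx).sum :=
      List.sum_le_sum fun e he => val_le V (hR e he)
    omega
  · intro D' hp hl
    rw [List.append_nil] at hp
    have hmem : ∀ c, S c ≠ 0 → (c, S c) ∈ enc S D' := fun c hc =>
      mem_enc.2 ⟨hp.mem_iff.2 (V.support c hc), hc, rfl⟩
    have hsum : ((enc S D').map Prod.snd).sum = n := by
      rw [sum_enc, (hp.map S).sum_eq, V.total]
    have hvals : (X.N.all fun v => ((enc S D').map Prod.snd).contains v) = true := by
      rw [List.all_eq_true]
      intro v hv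
      obtain ⟨m, -, rfl, hm⟩ := V.attained v hv
      rw [List.contains_iff_mem]
      exact List.mem_map_of_mem (f := Prod.snd) (hmem m hm)
    have hcongs : ∀ ds : List ℕ,
        ds.any (fun d => dv d n && !(dv d (sumDiv (enc S D') d))) = false := by
      intro ds
      rw [List.any_eq_false]
      intro d _
      simp only [Bool.and_eq_true, dv_iff, Bool.not_eq_true', ← Bool.not_eq_true, not_and,
        not_not]
      intro hdn
      rw [sumDiv_enc, ((hp.filter _).map S).sum_eq]
      exact V.cong d hdn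
    simp only [Data.leaf, hsum, beq_self_eq_true, hvals, hcongs, Bool.not_true, Bool.false_or,
      Bool.and_eq_true, beq_iff_eq, List.all_eq_true, List.contains_iff_mem] at hl
    exact ⟨hl.1, fun t ht => (mem_enc.1 (hl.2 t ht)).2.2⟩
  · rw [List.append_nil]
    exact List.Pairwise.sublist (List.Sublist.map _ List.filter_sublist)
      (List.pairwise_append.1 hsort).2.1

end CfsgLib.OrderCounts
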