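import Cfsg.Agent.OrderCounts.Search

/-! # The tables for the searches for the alternating groups of degree four, five and six -/

namespace CfsgLib.OrderCounts

/-- The table for `altFour`. -/
def dataFour : Data where
  N := [1, 3, 8]
  odd := 3
  P := [2, 3]
  pps := [⟨2, 1, [3], 1, 3⟩,
    ⟨3, 2, [8], 1, 8⟩,
    ⟨4, 2, [8], 2, 8⟩,
    ⟨8, 4, [8], 3, 8⟩,
    ⟨16, 8, [8], 4, 8⟩]
  comp := [⟨6, 2, [8], 3, 8⟩,
    ⟨12, 4, [8], 5, 8⟩,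
    ⟨24, 8, [8], 7, 8⟩]
  order := 12
  target := [(2, 3), (3, 8)]

set_option maxRecDepth 100000 in
lemma dataFour_tablesOK : dataFour.tablesOK = true := by decide +kernel

set_option maxRecDepth 100000 in
lemma dataFour_run : dataFour.run = true := by decide +kernel

/-- The table for `altFive`. -/
def dataFive : Data where
  N := [1, 15, 20, 24]
  odd := 15
  P := [2, 3, 5]
  pps := [⟨2, 1, [15], 1, 15⟩,
    ⟨3, 2, [20, 24], 1, 24⟩,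
    ⟨4, 2, [20, 24], 2, 24⟩,
    ⟨5, 4, [20, 24], 1, 24⟩,
    ⟨8, 4, [20, 24], 3, 24⟩,
    ⟨9, 6, [24], 2, 24⟩,
    ⟨16, 8, [24], 4, 24⟩,
    ⟨25, 20, [20], 2, 20⟩]
  comp := [⟨6, 2, [20, 24], 3, 24⟩,
    ⟨10, 4, [20, 24], 3, 24⟩,
    ⟨12, 4, [20, 24], 5, 24⟩,
    ⟨15, 8, [24], 3, 24⟩,
    ⟨18, 6, [24], 5, 24⟩,
    ⟨20, 8, [24], 5, 24⟩,
    ⟨24, 8, [24], 7, 24⟩,
    ⟨30, 8, [24], 7, 24⟩,
    ⟨36, 12, [24], 8, 24⟩,
    ⟨45, 24, [24], 5, 24⟩,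
    ⟨50, 20, [20], 5, 20⟩,
    ⟨72, 24, [24], 11, 24⟩,
    ⟨90, 24, [24], 11, 24⟩]
  order := 60
  target := [(2, 15), (3, 20), (5, 24)]

set_option maxRecDepth 100000 in
lemma dataFive_tablesOK : dataFive.tablesOK = true := by decide +kernel

set_option maxRecDepth 100000 in
lemma dataFive_run : dataFive.run = true := by decide +kernel

/-- The table for `altSix`. -/
def dataSix : Data where
  N := [1, 45, 80, 90, 144]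
  odd := 45
  P := [2, 3, 5, 7]
  pps := [⟨2, 1, [45], 1, 45⟩,
    ⟨3, 2, [80, 90, 144], 1, 144⟩,
    ⟨4, 2, [80, 90, 144], 2, 144⟩,
    ⟨5, 4, [80, 144], 1, 144⟩,
    ⟨7, 6, [90, 144], 1, 144⟩,
    ⟨8, 4, [80, 144], 3, 144⟩,
    ⟨9, 6, [90, 144], 2, 144⟩,
    ⟨16, 8, [80, 144], 4, 144⟩,
    ⟨25, 20, [80], 2, 80⟩,
    ⟨27, 18, [90, 144], 3, 144⟩,
    ⟨32, 16, [80, 144], 5, 144⟩]
  comp := [⟨6, 2, [80, 90, 144], 3, 144⟩,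
    ⟨10, 4, [80, 144], 3, 144⟩,
    ⟨12, 4, [80, 144], 5, 144⟩,
    ⟨14, 6, [90, 144], 3, 144⟩,
    ⟨15, 8, [80, 144], 3, 144⟩,
    ⟨18, 6, [90, 144], 5, 144⟩,
    ⟨20, 8, [80, 144], 5, 144⟩,
    ⟨21, 12, [144], 3, 144⟩,
    ⟨24, 8, [80, 144], 7, 144⟩,
    ⟨28, 12, [144], 5, 144⟩,
    ⟨30, 8, [80, 144], 7, 144⟩,
    ⟨35, 24, [144], 3, 144⟩,
    ⟨36, 12, [144], 8, 144⟩,
    ⟨40, 16, [80, 144], 7, 144⟩,
    ⟨42, 12, [144], 7, 144⟩,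
    ⟨45, 24, [144], 5, 144⟩,
    ⟨48, 16, [80, 144], 9, 144⟩,
    ⟨50, 20, [80], 5, 80⟩,
    ⟨54, 18, [90, 144], 7, 144⟩,
    ⟨56, 24, [144], 7, 144⟩,
    ⟨60, 16, [80, 144], 11, 144⟩,
    ⟨63, 36, [144], 5, 144⟩,
    ⟨70, 24, [144], 7, 144⟩,
    ⟨72, 24, [144], 11, 144⟩,
    ⟨75, 40, [80], 5, 80⟩,
    ⟨84, 24, [144], 11, 144⟩,
    ⟨90, 24, [144], 11, 144⟩,
    ⟨100, 40, [80], 8, 80⟩,
    ⟨105, 48, [144], 7, 144⟩,
    ⟨108, 36, [144], 11, 144⟩,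
    ⟨112, 48, [144], 9, 144⟩,
    ⟨126, 36, [144], 11, 144⟩,
    ⟨135, 72, [144], 7, 144⟩,
    ⟨140, 48, [144], 11, 144⟩,
    ⟨144, 48, [144], 14, 144⟩,
    ⟨150, 40, [80], 11, 80⟩,
    ⟨168, 48, [144], 15, 144⟩,
    ⟨180, 48, [144], 17, 144⟩,
    ⟨200, 80, [80], 11, 80⟩,
    ⟨210, 48, [144], 15, 144⟩,
    ⟨216, 72, [144], 15, 144⟩,
    ⟨252, 72, [144], 17, 144⟩,
    ⟨270, 72, [144], 15, 144⟩,
    ⟨300, 80, [80], 17, 80⟩,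
    ⟨315, 144, [144], 11, 144⟩,
    ⟨432, 144, [144], 19, 144⟩,
    ⟨504, 144, [144], 23, 144⟩,
    ⟨540, 144, [144], 23, 144⟩,
    ⟨630, 144, [144], 23, 144⟩]
  order := 360
  target := [(2, 45), (3, 80), (4, 90), (5, 144)]

set_option maxRecDepth 100000 in
lemma dataSix_tablesOK : dataSix.tablesOK = true := by decide +kernel

set_option maxRecDepth 100000 in
lemma dataSix_run : dataSix.run = true := by decide +kernel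

end CfsgLib.OrderCounts
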